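/-
A stem extension of the stabiliser of three points in M24 with kernel (3 x 4 x 4).

Main result: `exists_cover`.
-/
import Cfsg.Agent.Lib.MultiplierLThreeFour.DataTwo
import Cfsg.Agent.Lib.MultiplierLThreeFour.DataThree
import Cfsg.Agent.Lib.PcCover.TablePairs
import Cfsg.Agent.Lib.CoverSixSeven.Bound
import Cfsg.Agent.Lib.Golay.Mathieu

set_option autoImplicit false
set_option linter.style.haveILetI false
set_option maxRecDepth 100000
set_option Elab.async false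
open Cfsg
open scoped commutatorElement

namespace Cfsg.Agent.MultiplierLThreeFour

open Cfsg.Agent.Golay Cfsg.Agent.Multiplier Cfsg.Agent.PcCover

/-- Codes of elements of the stabiliser. -/
def ok (d : ℕ) : Bool := isAut d && fn d 23 == 23 && fn d 0 == 0 && fn d 1 == 1

theorem ok_sound : ∀ d, ok d = true → validPerm d = true ∧ toPerm d ∈ chain 3 := fun d h => by
  simp only [ok, Bool.and_eq_true, beq_iff_eq] at h
  refine ⟨validPerm_of_isAut h.1.1.1, toPerm_mem_chain' h.1.1.1 fun a ha => ?_⟩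
  interval_cases a
  · exact h.1.1.2
  · exact h.1.2
  · exact h.2
where
  toPerm_mem_chain' {d : ℕ} (h : isAut d = true)
      (hfix : ∀ a < 3, fn d (baseIdx.getD a 0) = baseIdx.getD a 0) : toPerm d ∈ chain 3 :=
    mem_chain.mpr ⟨toPerm_mem_M24 h, fun a ha => idx_injective (by
      rw [idx_toPerm (validPerm_of_isAut h), idx_bpt a (by omega), hfix a ha])⟩

theorem natCard_eq : Nat.card (chain 3) = 20160 := natCard_chain 3 (by norm_num)

/-- All rows pass. -/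
def allRows (T : Table) (R : Rules) : Bool := (List.range T.size).all (T.rowOk ok R)

theorem rows_all {T : Table} {R : Rules} (h : allRows T R = true) : ∀ i < T.size, T.rowOk ok R i = true :=
  fun i hi => List.all_eq_true.1 h i (List.mem_range.2 hi)

theorem p_rows : allRows Two.tableP Two.rules = true := by decide +kernel
theorem q_rows : allRows Two.tableQ Two.rules = true := by decide +kernel
theorem three_rows : allRows Three.table Three.base.rules = true := by decide +kernel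
theorem p_base : Two.tableP.baseOk ok Two.rules = true := by decide +kernel
theorem q_base : Two.tableQ.baseOk ok Two.rules = true := by decide +kernel
theorem three_base : Three.table.baseOk ok Three.base.rules = true := by decide +kernel
theorem a_check : Two.baseA.check (eqWord Two.tableP.gens) = true := by decide +kernel
theorem three_check : Three.base.check (eqWord Three.table.gens) = true := by decide +kernel

theorem a_model : ∀ k < Two.baseA.rules.length, ∀ x, wp Two.aModel (Two.baseA.rules.getD k ([], [])).1 x =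
    (wp Two.aModel (Two.baseA.rules.getD k ([], [])).2 * Two.aCen ^ Two.baseA.phi.getD k 0) x := by
  decide +kernel

theorem b_model : ∀ k < Two.baseB.rules.length, ∀ x, wp Two.bModel (Two.baseB.rules.getD k ([], [])).1 x =
    (wp Two.bModel (Two.baseB.rules.getD k ([], [])).2 * Two.bCen ^ Two.baseB.phi.getD k 0) x := by
  decide +kernel

theorem three_model : ∀ k < Three.base.rules.length, ∀ x, wp Three.gModel (Three.base.rules.getD k ([], [])).1 x =
    (wp Three.gModel (Three.base.rules.getD k ([], [])).2 * Three.gCen ^ Three.base.phi.getD k 0) x := by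
  decide +kernel

theorem a_cen : ∀ i < Two.baseA.n, ∀ x, (Two.aModel i * Two.aCen) x = (Two.aCen * Two.aModel i) x := by
  decide +kernel

theorem b_cen : ∀ i < Two.baseB.n, ∀ x, (Two.bModel i * Two.bCen) x = (Two.bCen * Two.bModel i) x := by
  decide +kernel

theorem three_cen : ∀ i < Three.base.n, ∀ x, (Three.gModel i * Three.gCen) x = (Three.gCen * Three.gModel i) x := by
  decide +kernel

theorem same_reps : ∀ i < Two.tableP.size, Two.tableQ.rep i = Two.tableP.rep i := by decide +kernel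

theorem dots : dotV Two.baseA.phi Two.tableP.tot = -3 ∧ dotV Two.baseA.phi Two.tableQ.tot = 17 ∧
    dotV Two.baseB.phi Two.tableP.tot = -1 ∧ dotV Two.baseB.phi Two.tableQ.tot = -60 := by decide +kernel

theorem zpow_mod {Γ : Type} [Group Γ] {c : Γ} {m : ℕ} (h : orderOf c = m) (e : ℤ) (r : ℤ)
    (he : ((e - r) % (m : ℤ)) = 0) : c ^ e = c ^ r := by
  subst h
  rw [zpow_eq_zpow_iff_modEq]
  exact (Int.modEq_iff_dvd.2 (Int.dvd_of_emod_eq_zero he)).symm

open CoverSixSeven in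
/-- The extension with kernel (4 x 4). -/
theorem exists_sixteen_cover : ∃ (Γ : Type) (_ : Group Γ) (_ : Finite Γ) (σ : Γ →* chain 3),
    Cfsg.IsStemExtension σ ∧ Nonempty (σ.ker ≃* Multiplicative (ZMod 4 × ZMod 4)) := by
  haveI := Fact.mk Nat.prime_two
  obtain ⟨Γ₁, _, _, σ₁, c₁, hs₁, hz₁, hk₁, ho₁, hP₁, hQ₁⟩ := exists_ext_of_table ok_sound Two.baseA Two.tableP rfl
    (by rw [natCard_eq]; decide +kernel) a_check p_base (rows_all p_rows) Two.aModel Two.aCen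
    (fun i hi => Equiv.ext (a_cen i hi))
    (show orderOf Two.aCen = 2 ^ (1 + 1) from orderOf_eq_prime_pow
      (fun h => absurd (DFunLike.congr_fun h 0) (by decide +kernel)) (Equiv.ext (by decide +kernel)))
    a_model rfl Two.tableQ rfl rfl rfl same_reps q_base (rows_all q_rows)
  obtain ⟨Γ₂, _, _, σ₂, c₂, hs₂, hz₂, hk₂, ho₂, hP₂, hQ₂⟩ := exists_ext_of_table ok_sound Two.baseB Two.tableP rfl
    (by rw [natCard_eq]; decide +kernel) a_check p_base (rows_all p_rows) Two.bModel Two.bCen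
    (fun i hi => Equiv.ext (b_cen i hi))
    (show orderOf Two.bCen = 2 ^ (1 + 1) from orderOf_eq_prime_pow
      (fun h => absurd (DFunLike.congr_fun h 0) (by decide +kernel)) (Equiv.ext (by decide +kernel)))
    b_model rfl Two.tableQ rfl rfl rfl same_reps q_base (rows_all q_rows)
  obtain ⟨d1, d2, d3, d4⟩ := dots
  rw [d1] at hP₁
  rw [d2] at hQ₁
  rw [d3] at hP₂
  rw [d4] at hQ₂
  have h4₁ : orderOf c₁ = 4 := ho₁
  have h4₂ : orderOf c₂ = 4 := ho₂
  let σ : Fib σ₁ σ₂ →* chain 3 := (σ₁.comp (MonoidHom.fst _ _)).comp (Fib σ₁ σ₂).subtype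
  have hk : ∀ x : Fib σ₁ σ₂, x ∈ σ.ker → x.1.2 ∈ σ₂.ker := fun x hx => by
    rw [MonoidHom.mem_ker, ← (mem_fib σ₁ σ₂).1 x.2]
    exact hx
  have hc₁ : σ₁ c₁ = 1 := MonoidHom.mem_ker.1 (hk₁ ▸ Subgroup.mem_zpowers c₁)
  have hc₂ : σ₂ c₂ = 1 := MonoidHom.mem_ker.1 (hk₂ ▸ Subgroup.mem_zpowers c₂)
  have hpow₁ : ∀ i : ℤ, σ₁ (c₁ ^ i) = 1 := fun i => by rw [map_zpow, hc₁, one_zpow]
  have hpow₂ : ∀ i : ℤ, σ₂ (c₂ ^ i) = 1 := fun i => by rw [map_zpow, hc₂, one_zpow]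
  let ι : ℤ → ℤ → Fib σ₁ σ₂ := fun i j => ⟨(c₁ ^ i, c₂ ^ j), (mem_fib σ₁ σ₂).2 (by rw [hpow₁, hpow₂])⟩
  have hι : ∀ i j k l, ι i j * ι k l = ι (i + k) (j + l) := fun i j k l =>
    Subtype.ext (Prod.ext (zpow_add c₁ i k).symm (zpow_add c₂ j l).symm)
  have hlift : ∀ g : chain 3, ∃ p : Fib σ₁ σ₂, σ₁ p.1.1 = g ∧ σ₂ p.1.2 = g := fun g => by
    obtain ⟨a, ha⟩ := hs₁ g
    obtain ⟨b, hb⟩ := hs₂ g
    exact ⟨⟨(a, b), ha.trans hb.symm⟩, ha, hb⟩
  have hcomm : ∀ i j, ι i j ∈ commutator (Fib σ₁ σ₂) := by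
    obtain ⟨X, hX₁, hX₂⟩ := hlift (MathieuCert.el ok_sound Two.tableP.x)
    obtain ⟨Y, hY₁, hY₂⟩ := hlift (MathieuCert.el ok_sound Two.tableP.y)
    obtain ⟨X', hX₁', hX₂'⟩ := hlift (MathieuCert.el ok_sound Two.tableQ.x)
    obtain ⟨Y', hY₁', hY₂'⟩ := hlift (MathieuCert.el ok_sound Two.tableQ.y)
    have hp : ι 1 3 = ⁅X, Y⁆ := Subtype.ext (Prod.ext
      (show c₁ ^ (1 : ℤ) = ⁅X.1.1, Y.1.1⁆ by rw [hP₁ _ _ hX₁ hY₁, zpow_mod h4₁ (-3) 1 (by norm_num)])
      (show c₂ ^ (3 : ℤ) = ⁅X.1.2, Y.1.2⁆ by rw [hP₂ _ _ hX₂ hY₂, zpow_mod h4₂ (-1) 3 (by norm_num)]))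
    have hq : ι 1 0 = ⁅X', Y'⁆ := Subtype.ext (Prod.ext
      (show c₁ ^ (1 : ℤ) = ⁅X'.1.1, Y'.1.1⁆ by rw [hQ₁ _ _ hX₁' hY₁', zpow_mod h4₁ 17 1 (by norm_num)])
      (show c₂ ^ (0 : ℤ) = ⁅X'.1.2, Y'.1.2⁆ by rw [hQ₂ _ _ hX₂' hY₂', zpow_mod h4₂ (-60) 0 (by norm_num)]))
    have hzp : ∀ i j : ℤ, ∀ k : ℤ, ι i j ^ k = ι (k * i) (k * j) := fun i j k => by
      refine Subtype.ext (Prod.ext ?_ ?_)
      · rw [SubgroupClass.coe_zpow, Prod.pow_fst]; exact ((zpow_mul c₁ i k).symm.trans (by rw [mul_comm]))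
      · rw [SubgroupClass.coe_zpow, Prod.pow_snd]; exact ((zpow_mul c₂ j k).symm.trans (by rw [mul_comm]))
    intro i j
    have h : ι i j = ι 1 3 ^ (3 * j) * ι 1 0 ^ (i - 3 * j) := by
      rw [hzp, hzp, hι]
      refine Subtype.ext (Prod.ext ?_ ?_)
      · show c₁ ^ i = c₁ ^ (3 * j * 1 + (i - 3 * j) * 1)
        rw [show 3 * j * 1 + (i - 3 * j) * 1 = i by ring]
      · show c₂ ^ j = c₂ ^ (3 * j * 3 + (i - 3 * j) * 0)
        exact zpow_mod h4₂ _ _ (by omega)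
    rw [h, hp, hq]
    exact mul_mem (Subgroup.zpow_mem _ (Subgroup.commutator_mem_commutator (Subgroup.mem_top _) (Subgroup.mem_top _)) _)
      (Subgroup.zpow_mem _ (Subgroup.commutator_mem_commutator (Subgroup.mem_top _) (Subgroup.mem_top _)) _)
  have hall : ∀ x : Fib σ₁ σ₂, x ∈ σ.ker → ∃ i j, x = ι i j := fun x hx => by
    obtain ⟨i, hi⟩ := Subgroup.mem_zpowers_iff.1 (hk₁ ▸ (show x.1.1 ∈ σ₁.ker from hx))
    obtain ⟨j, hj⟩ := Subgroup.mem_zpowers_iff.1 (hk₂ ▸ hk x hx)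
    exact ⟨i, j, Subtype.ext (Prod.ext hi.symm hj.symm)⟩
  refine ⟨Fib σ₁ σ₂, inferInstance, inferInstance, σ, ⟨?_, ?_, fun x hx => ?_⟩, ?_⟩
  · intro g
    obtain ⟨p, hp, -⟩ := hlift g
    exact ⟨p, hp⟩
  · exact fun x hx => Subgroup.mem_center_iff.2 fun g => Subtype.ext (Prod.ext
      ((Subgroup.mem_center_iff.1 (hz₁ (show x.1.1 ∈ σ₁.ker from hx))) g.1.1)
      ((Subgroup.mem_center_iff.1 (hz₂ (hk x hx))) g.1.2))
  · obtain ⟨i, j, rfl⟩ := hall x hx
    exact hcomm i j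
  · let e : σ.ker ≃* σ₁.ker × σ₂.ker :=
      { toFun := fun x => (⟨x.1.1.1, x.2⟩, ⟨x.1.1.2, hk x.1 x.2⟩)
        invFun := fun y => ⟨⟨(y.1.1, y.2.1), (mem_fib σ₁ σ₂).2 (by
          rw [(MonoidHom.mem_ker).1 y.1.2, (MonoidHom.mem_ker).1 y.2.2])⟩, y.1.2⟩
        left_inv := fun x => rfl
        right_inv := fun y => rfl
        map_mul' := fun x y => rfl }
    have e4 : ∀ {Γ : Type} [Group Γ] (H : Subgroup Γ) (c : Γ), H = Subgroup.zpowers c → orderOf c = 4 →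
        Nonempty (H ≃* Multiplicative (ZMod 4)) := by
      intro Γ _ H c hH hc
      subst hH
      haveI : IsCyclic (Subgroup.zpowers c) := Subgroup.isCyclic_zpowers c
      exact ⟨(zmodCyclicMulEquiv (by infer_instance)).symm.trans
        (by rw [Nat.card_zpowers, hc])⟩
    obtain ⟨f₁⟩ := e4 σ₁.ker c₁ hk₁ h4₁
    obtain ⟨f₂⟩ := e4 σ₂.ker c₂ hk₂ h4₂
    exact ⟨(e.trans (MulEquiv.prodCongr f₁ f₂)).trans (MulEquiv.prodMultiplicative (ZMod 4) (ZMod 4)).symm⟩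

open CoverSixSeven in
/-- A stem extension with kernel (3 x 4 x 4). -/
theorem exists_cover : ∃ (Γ : Type) (_ : Group Γ) (_ : Finite Γ) (σ : Γ →* chain 3),
    Cfsg.IsStemExtension σ ∧ Nonempty (σ.ker ≃* Multiplicative (ZMod 3 × ZMod 4 × ZMod 4)) := by
  haveI := Fact.mk Nat.prime_three
  obtain ⟨Γ₁, _, _, σ₁, hσ₁, hy₁, hc₁⟩ := exists_stem_of_table ok_sound Three.base Three.table rfl
    (by rw [natCard_eq]; decide +kernel) three_check three_base (rows_all three_rows) Three.gModel Three.gCen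
    (fun i hi => Equiv.ext (three_cen i hi))
    (show orderOf Three.gCen = 3 from orderOf_eq_prime (Equiv.ext (by decide +kernel))
      (fun h => absurd (DFunLike.congr_fun h 0) (by decide +kernel)))
    three_model rfl 2 (by decide +kernel)
  obtain ⟨Γ₂, _, _, σ₂, hσ₂, ⟨e₂⟩⟩ := exists_sixteen_cover
  have h3 : Nat.card σ₁.ker = 3 := hc₁
  have h16 : Nat.card σ₂.ker = 16 := by
    rw [Nat.card_congr e₂.toEquiv, Nat.card_congr Multiplicative.toAdd, Nat.card_prod, Nat.card_zmod]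
  let σ : Fib σ₁ σ₂ →* chain 3 := (σ₁.comp (MonoidHom.fst _ _)).comp (Fib σ₁ σ₂).subtype
  have hk : ∀ x : Fib σ₁ σ₂, x ∈ σ.ker → x.1.2 ∈ σ₂.ker := fun x hx => by
    rw [MonoidHom.mem_ker, ← (mem_fib σ₁ σ₂).1 x.2]
    exact hx
  refine ⟨Fib σ₁ σ₂, inferInstance, inferInstance, σ, ⟨?_, ?_, ?_⟩, ?_⟩
  · intro g
    obtain ⟨a, ha⟩ := hσ₁.1 g
    obtain ⟨b, hb⟩ := hσ₂.1 g
    exact ⟨⟨(a, b), ha.trans hb.symm⟩, ha⟩
  · exact fun x hx => Subgroup.mem_center_iff.2 fun g => Subtype.ext (Prod.ext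
      ((Subgroup.mem_center_iff.1 (hσ₁.2.1 (show x.1.1 ∈ σ₁.ker from hx))) g.1.1)
      ((Subgroup.mem_center_iff.1 (hσ₂.2.1 (hk x hx))) g.1.2))
  · intro x hx
    have h1 := mem_commutator_fib σ₁ σ₂ hσ₁ hσ₂.1 (by rw [h3, h16]; decide)
      (show x.1.1 ∈ σ₁.ker from hx)
    have h2 := mem_commutator_fib σ₂ σ₁ hσ₂ hσ₁.1 (by rw [h3, h16]; decide) (hk x hx)
    let sw : Fib σ₂ σ₁ →* Fib σ₁ σ₂ :=
      { toFun := fun y => ⟨(y.1.2, y.1.1), y.2.symm⟩
        map_one' := rfl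
        map_mul' := fun _ _ => rfl }
    have h4 : sw ⟨(x.1.2, 1), (mem_fib σ₂ σ₁).2 (by rw [map_one]; exact hk x hx)⟩ ∈
        commutator (Fib σ₁ σ₂) := by
      have hmap : (commutator (Fib σ₂ σ₁)).map sw ≤ commutator (Fib σ₁ σ₂) := by
        rw [commutator_def, Subgroup.map_commutator]
        exact Subgroup.commutator_mono le_top le_top
      exact hmap ⟨_, h2, rfl⟩
    convert mul_mem h1 h4 using 1
    exact Subtype.ext (Prod.ext (mul_one _).symm (one_mul _).symm)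
  · let e : σ.ker ≃* σ₁.ker × σ₂.ker :=
      { toFun := fun x => (⟨x.1.1.1, x.2⟩, ⟨x.1.1.2, hk x.1 x.2⟩)
        invFun := fun y => ⟨⟨(y.1.1, y.2.1), (mem_fib σ₁ σ₂).2 (by
          rw [(MonoidHom.mem_ker).1 y.1.2, (MonoidHom.mem_ker).1 y.2.2])⟩, y.1.2⟩
        left_inv := fun x => rfl
        right_inv := fun y => rfl
        map_mul' := fun x y => rfl }
    have f₁ : σ₁.ker ≃* Multiplicative (ZMod 3) :=
      (zmodCyclicMulEquiv hy₁).symm.trans (by rw [h3])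
    exact ⟨(e.trans (MulEquiv.prodCongr f₁ e₂)).trans
      (MulEquiv.prodMultiplicative (ZMod 3) (ZMod 4 × ZMod 4)).symm⟩

end Cfsg.Agent.MultiplierLThreeFour
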