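/-
Certificates bounding the 2- and 3-parts of the multiplier of PSL(3,4).
-/
import Cfsg.Agent.Lib.PcCover.Collect

set_option autoImplicit false

namespace Cfsg.Agent.MultiplierLThreeFour.Upper

/-- The second bounding vector. -/
def cvecTwo : List ℤ := [0, 0, 0, 0, 1, 0, 1, 0, -1, 1, 1, 1, 0, 1, 0, 0, 0, 1, 1, -1, 0]

/-- Its order relation. -/
def mcombTwo : List ℤ := [12, -28, 81, 5, 11, 54, -44, 70, 8, 60, -46, 35, -7, 39, 39, -29, 12, 8]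

/-- The letters. -/
def twoGens : List ℕ :=
  [0xbda6aaacb048da8951ec31e2470820,
    0xbd8cf3b1d0a45b24254b9d46428820,
    0xbc92655a2c3b9706cea47d0a818820,
    0xb9e086be3593a6952d94b10a618820,
    0xbb4c93ae2453ac893e8c9d4b018820,
    0xbc0ea332364b892451ebaccad18820,
    0xb92125a8e9b4e2d416837baac11820,
    0xbbd934460aa9283718e55c9a9b0820]

/-- The certificate. -/
def two : PcCover.Cert where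
  n := 6
  rules := [([0, 0], []),
    ([1, 1], []),
    ([2, 2], []),
    ([3, 3], []),
    ([4, 4], []),
    ([5, 5], []),
    ([1, 0], [0, 1]),
    ([2, 0], [0, 2, 4]),
    ([2, 1], [1, 2, 5]),
    ([3, 0], [0, 3, 4, 5]),
    ([3, 1], [1, 3, 4]),
    ([3, 2], [2, 3]),
    ([4, 0], [0, 4]),
    ([4, 1], [1, 4]),
    ([4, 2], [2, 4]),
    ([4, 3], [3, 4]),
    ([5, 0], [0, 5]),
    ([5, 1], [1, 5]),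
    ([5, 2], [2, 5]),
    ([5, 3], [3, 5]),
    ([5, 4], [4, 5])]
  rels := [.cons [1] 0,
    .cons [2] 0,
    .cons [2] 1,
    .cons [2] 6,
    .cons [2] 7,
    .cons [2] 8,
    .cons [3] 0,
    .cons [3] 1,
    .cons [3] 2,
    .cons [3] 6,
    .cons [3] 7,
    .cons [3] 8,
    .cons [3] 9,
    .cons [3] 10,
    .cons [2, 3] 0,
    .cons [2, 3] 1,
    .fus 6 [2, 5] [2, 3] [0, 1, 5] [0, 4, 5],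
    .fus 7 [4] [1] [1] [0, 1, 4]]
  cvec := [0, 0, 0, 0, 0, 0, -1, -1, 0, 0, 1, 1, 0, 0, 1, -1, 0, 0, 0, 0, 0]
  m := 4
  mcomb := [-4, 8, -19, 1, -4, -13, 13, -18, 0, -17, 9, -9, -1, -14, -14, 6, -4, 0]
  basis := [(4, [0, 0, 0, 0, 1, 0, 0, 2, 0, 0, 0, 0, 1, 0, 0, 0, 0, 0, 0, 0, 0], [0, 0, 0, 1, 0, 0, 0, 0, 0, 0, 0, 0, 0, 0, 0, 0, 0, 0, 0, 0]),
    (5, [0, 0, 0, 0, 0, 1, 0, 0, 2, 0, 0, 0, 0, 0, 0, 0, 0, 1, 0, 0, 0], [0, 0, 0, 0, 1, 0, 0, 0, 0, 0, 0, 0, 0, 0, 0, 0, 0, 0, 0, 0]),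
    (6, [0, 0, 0, 0, 0, 0, 1, 0, 0, 0, 0, -1, 1, 1, 0, 0, 0, 1, 1, 1, -1], [0, 0, 1, 0, 0, 0, 0, 0, 0, 0, 0, 0, 0, 0, 0, 0, 0, 0, 1, 0]),
    (7, [0, 0, 0, 0, 0, 0, 0, 1, 2, -2, 1, 0, 1, 1, 1, -1, -1, 2, 1, 1, -2], [1, 0, 1, 1, 1, 0, 0, 0, -1, 0, 0, 0, 0, 0, 0, 0, 0, 0, 1, 0]),
    (8, [0, 0, 0, 0, 0, 0, 0, 0, 1, -1, 1, 2, 1, 1, 2, -2, -1, 3, 2, 0, -2], [2, 1, 1, 1, 1, 0, 0, 0, -1, -1, 0, 0, 0, 0, 0, 0, 0, 0, 1, 0]),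
    (11, [0, 0, 0, 0, 0, 0, 0, 0, 0, 0, 0, 1, 1, 3, 0, 0, 0, 1, 1, 1, -1], [0, 0, 1, 0, 0, 0, 0, 0, 0, 0, 1, 0, 0, 0, 0, 0, 0, 0, 1, 1]),
    (12, [0, 0, 0, 0, 0, 0, 0, 0, 0, 0, 0, 0, 1, 0, -1, 0, 0, 0, 0, 0, 0], [0, 0, 0, 1, 0, 0, 1, 0, 0, 0, 0, 0, 0, 0, 0, 0, 0, 0, 0, 0]),
    (13, [0, 0, 0, 0, 0, 0, 0, 0, 0, 0, 0, 0, 0, 1, 0, 0, -1, 0, 0, 0, 1], [0, 0, 0, 0, 0, -1, 0, 0, 0, 0, 0, 0, 0, 0, 0, 0, 0, 0, 0, 0]),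
    (14, [0, 0, 0, 0, 0, 0, 0, 0, 0, 0, 0, 0, 0, 0, 1, 0, -1, -1, 0, 0, 2], [0, 0, 0, -1, 0, -1, -1, 0, 0, 0, 0, 1, 0, 0, 0, 0, 0, 0, 0, 0]),
    (15, [0, 0, 0, 0, 0, 0, 0, 0, 0, 0, 0, 0, 0, 0, 0, 1, -1, -1, -1, 0, 1], [0, 0, 0, -1, 0, -1, -1, 0, 0, 0, 0, 1, 1, 0, 0, 0, 0, 0, 0, 0]),
    (16, [0, 0, 0, 0, 0, 0, 0, 0, 0, 0, 0, 0, 0, 0, 0, 0, 1, 1, 0, -1, -3], [0, 0, 0, 1, 0, 1, 1, 0, 0, 0, 0, -1, 0, -1, 0, 0, 0, 0, 0, 0]),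
    (17, [0, 0, 0, 0, 0, 0, 0, 0, 0, 0, 0, 0, 0, 0, 0, 0, 0, 1, -1, 0, 0], [0, 0, 0, 0, 1, 0, 0, 1, 0, 0, 0, 0, 0, 0, 0, 0, 0, 0, 0, 0]),
    (18, [0, 0, 0, 0, 0, 0, 0, 0, 0, 0, 0, 0, 0, 0, 0, 0, 0, 0, 1, -6, -3], [-2, 0, -2, 5, 0, 1, 6, 0, -1, 1, 0, -2, -3, -5, -1, 0, 0, 0, -2, 0]),
    (19, [0, 0, 0, 0, 0, 0, 0, 0, 0, 0, 0, 0, 0, 0, 0, 0, 0, 0, 0, 1, 59], [-22, -2, -16, 30, -7, 8, 41, 13, -8, -7, 4, -6, -31, -32, -9, 0, 0, 19, -16, 4]),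
    (20, [0, 0, 0, 0, 0, 0, 0, 0, 0, 0, 0, 0, 0, 0, 0, 0, 0, 0, 0, 0, 1], [0, 0, 0, 0, 1, 0, 1, 1, -1, 1, 0, 1, -1, 0, 0, 1, 1, 0, 0, 0])]
  T := [([], []),
    ([4], [0, 0, 0, 0, -1, 0, 0, -1, 0, 0, 0, 0, 0, 0, 0, 0, 0, 0, 0, 0, 0]),
    ([4, 5], [0, 0, 0, 0, -1, -1, 0, 0, 0, -1, 0, 0, 0, 0, 0, 0, 0, 0, 0, 0, -1]),
    ([5], [0, 0, 0, 0, 0, -1, 0, 0, -1, 0, 0, 0, 0, 0, 0, 0, 0, 0, 0, 0, 0])]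
  elems := [[], [0], [1], [0, 1], [2], [0, 2],
    [1, 2], [0, 1, 2], [3], [0, 3], [1, 3], [0, 1, 3],
    [2, 3], [0, 2, 3], [1, 2, 3], [0, 1, 2, 3], [4], [0, 4],
    [1, 4], [0, 1, 4], [2, 4], [0, 2, 4], [1, 2, 4], [0, 1, 2, 4],
    [3, 4], [0, 3, 4], [1, 3, 4], [0, 1, 3, 4], [2, 3, 4], [0, 2, 3, 4],
    [1, 2, 3, 4], [0, 1, 2, 3, 4], [5], [0, 5], [1, 5], [0, 1, 5],
    [2, 5], [0, 2, 5], [1, 2, 5], [0, 1, 2, 5], [3, 5], [0, 3, 5],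
    [1, 3, 5], [0, 1, 3, 5], [2, 3, 5], [0, 2, 3, 5], [1, 2, 3, 5], [0, 1, 2, 3, 5],
    [4, 5], [0, 4, 5], [1, 4, 5], [0, 1, 4, 5], [2, 4, 5], [0, 2, 4, 5],
    [1, 2, 4, 5], [0, 1, 2, 4, 5], [3, 4, 5], [0, 3, 4, 5], [1, 3, 4, 5], [0, 1, 3, 4, 5],
    [2, 3, 4, 5], [0, 2, 3, 4, 5], [1, 2, 3, 4, 5], [0, 1, 2, 3, 4, 5]]
  order := 20160
  p := 2

/-- The letters. -/
def threeGens : List ℕ :=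
  [0xbbab0b1a9194caa69d2863d6220c20,
    0xbc12ba18ad946c79b11553dc418820]

/-- The certificate. -/
def three : PcCover.Cert where
  n := 2
  rules := [([0, 0, 0], []),
    ([1, 1, 1], []),
    ([1, 0], [0, 1])]
  rels := [.cons [1] 0]
  cvec := [0, 0, 1]
  m := 3
  mcomb := [1]
  basis := [(2, [0, 0, 1], [1, 0])]
  T := [([], [])]
  elems := [[], [0], [0, 0], [1], [0, 1], [0, 0, 1],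
    [1, 1], [0, 1, 1], [0, 0, 1, 1]]
  order := 20160
  p := 3

end Cfsg.Agent.MultiplierLThreeFour.Upper
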