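/-
Upper bound for the Schur multiplier of the stabiliser of three points in M24, that is, of PSL(3,4).

Main result: `exists_surj`.
-/
import Cfsg.Agent.Lib.MultiplierLThreeFour.DataUpper
import Cfsg.Agent.Lib.MultiplierLThreeFour.Cover
import Cfsg.Agent.Lib.PcCover.BoundTwo
import Cfsg.Agent.Lib.Schur.Basic

set_option autoImplicit false
set_option linter.style.haveILetI false
set_option maxRecDepth 100000
set_option Elab.async false
open Cfsg

universe u

namespace Cfsg.Agent.MultiplierLThreeFour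

open Cfsg.Agent.Golay Cfsg.Agent.Multiplier Cfsg.Agent.PcCover

theorem twoGens_ok : Upper.twoGens.all ok = true := by decide +kernel
theorem threeGens_ok : Upper.threeGens.all ok = true := by decide +kernel

theorem two_cert : Upper.two.checkTwo Upper.cvecTwo Upper.mcombTwo (eqWord Upper.twoGens) = true := by
  decide +kernel

theorem three_cert : Upper.three.check (eqWord Upper.threeGens) = true := by decide +kernel

theorem eq_one_of_five_le {Γ : Type u} [Group Γ] [Finite Γ] {σ : Γ →* chain 3}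
    (hσ : Cfsg.IsStemExtension σ) {p : ℕ} (hp : p.Prime) (hp5 : 5 ≤ p) {k : ℕ} {z : Γ}
    (hz : z ∈ σ.ker) (hord : z ^ p ^ k = 1) : z = 1 := by
  haveI := Fact.mk hp
  have hns : ¬ p ^ 2 ∣ 20160 := by
    intro hd
    have hpd : p ∣ 2 ^ 6 * (3 ^ 2 * (5 * 7)) :=
      (dvd_pow_self p two_ne_zero).trans (by norm_num; exact hd)
    rcases hp.dvd_mul.1 hpd with h | h
    · have := Nat.le_of_dvd (by norm_num) (hp.dvd_of_dvd_pow h); omega
    rcases hp.dvd_mul.1 h with h | h
    · have := Nat.le_of_dvd (by norm_num) (hp.dvd_of_dvd_pow h); omega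
    rcases hp.dvd_mul.1 h with h | h
    · rw [(Nat.prime_dvd_prime_iff_eq hp (by norm_num)).1 h] at hd; norm_num at hd
    · rw [(Nat.prime_dvd_prime_iff_eq hp (by norm_num)).1 h] at hd; norm_num at hd
  by_cases hd : p ∣ Nat.card (chain 3)
  · obtain ⟨r, hr⟩ := exists_prime_orderOf_dvd_card' (G := chain 3) p hd
    refine Schur.eq_one_of_cyclic hσ hp r (fun hdi => hns ?_) hz hord
    rw [← natCard_eq, pow_two, ← (Subgroup.zpowers r).card_mul_index, Nat.card_zpowers, hr]
    exact Nat.mul_dvd_mul_left p hdi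
  · refine Schur.eq_one_of_cyclic hσ hp 1 (fun hdi => hd ?_) hz hord
    rwa [Subgroup.zpowers_one_eq_bot, Subgroup.index_bot] at hdi

/-- The kernel of a stem extension is an image of a product of cyclic groups of orders 3, 4, 4. -/
theorem exists_surj {Γ : Type u} [Group Γ] [Finite Γ] (σ : Γ →* chain 3)
    (hσ : Cfsg.IsStemExtension σ) :
    ∃ π : Multiplicative (ZMod 3 × ZMod 4 × ZMod 4) →* σ.ker, Function.Surjective π := by
  classical
  obtain ⟨c, c', hc, hc', hcm, hcm', h2⟩ := Cert.bound_two Upper.two Upper.cvecTwo Upper.mcombTwo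
    (letter ok_sound Upper.twoGens) _
    (eqWord_iff ok_sound (by decide +kernel) twoGens_ok) natCard_eq Nat.prime_two two_cert hσ
  obtain ⟨c₃, h3⟩ := Cert.bound Upper.three (letter ok_sound Upper.threeGens) _
    (eqWord_iff ok_sound (by decide +kernel) threeGens_ok) natCard_eq Nat.prime_three three_cert hσ
  letI : CommGroup σ.ker :=
    { (inferInstance : Group σ.ker) with
      mul_comm := fun x y => Subtype.ext ((Subgroup.mem_center_iff.1 (hσ.2.1 y.2)) x.1) }
  let g : σ.ker := ⟨c, hc⟩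
  let g' : σ.ker := ⟨c', hc'⟩
  have hg : g ^ 4 = 1 := Subtype.ext hcm
  have hg' : g' ^ 4 = 1 := Subtype.ext hcm'
  have hexp : ∀ z : σ.ker, z ^ 12 = 1 := by
    intro z
    let K : Subgroup Γ := (powMonoidHom 12 : σ.ker →* σ.ker).ker.map σ.ker.subtype
    have hK : σ.ker ≤ K := Schur.le_of_primary fun p hp k w hw hwk => by
      refine ⟨⟨w, hw⟩, Subtype.ext ?_, rfl⟩
      show w ^ 12 = 1
      by_cases hp2 : p = 2
      · subst hp2
        obtain ⟨i, j, rfl⟩ := h2 k w hw hwk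
        have hcomm : Commute (c ^ i) (c' ^ j) :=
          (Subgroup.mem_center_iff.1 (hσ.2.1 (zpow_mem hc' j))) (c ^ i)
        have h12 : ∀ (x : Γ), x ^ 4 = 1 → ∀ i : ℤ, (x ^ i) ^ 12 = 1 := fun x hx i => by
          rw [← zpow_natCast (x ^ i), ← zpow_mul,
            show i * ((12 : ℕ) : ℤ) = ((4 : ℕ) : ℤ) * (i * 3) by push_cast; ring,
            zpow_mul, zpow_natCast, hx, one_zpow]
        rw [hcomm.mul_pow, h12 c hcm i, h12 c' hcm' j, one_mul]
      by_cases hp3 : p = 3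
      · subst hp3
        rw [show (12 : ℕ) = 3 * 4 from rfl, pow_mul, show w ^ 3 = 1 from (h3 k w hw hwk).2, one_pow]
      have hp5 : 5 ≤ p := by
        have := hp.two_le
        by_contra hlt
        interval_cases p <;> first | omega | norm_num at hp
      rw [eq_one_of_five_le hσ hp hp5 hw hwk, one_pow]
    obtain ⟨w, hw, hwz⟩ := hK z.2
    rw [← Subtype.ext hwz]
    exact hw
  obtain ⟨g₃, hg3, hall3⟩ : ∃ g₃ : σ.ker, g₃ ^ 3 = 1 ∧ ∀ z : σ.ker, z ^ 3 = 1 → z ∈ Subgroup.zpowers g₃ := by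
    let P : Subgroup σ.ker := (powMonoidHom 3 : σ.ker →* σ.ker).ker
    have hle : P.map σ.ker.subtype ≤ Subgroup.zpowers c₃ := by
      rintro _ ⟨z, hz, rfl⟩
      exact (h3 1 z z.2 (congrArg Subtype.val hz :)).1
    haveI : IsCyclic (P.map σ.ker.subtype) := Subgroup.isCyclic_of_le hle
    haveI : IsCyclic P :=
      isCyclic_of_surjective (P.equivMapOfInjective σ.ker.subtype Subtype.val_injective).symm
        (P.equivMapOfInjective σ.ker.subtype Subtype.val_injective).symm.surjective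
    obtain ⟨y, hy⟩ := IsCyclic.exists_generator (α := P)
    refine ⟨y, y.2, fun z hz => ?_⟩
    obtain ⟨i, hi⟩ := Subgroup.mem_zpowers_iff.1 (hy ⟨z, hz⟩)
    exact Subgroup.mem_zpowers_iff.2 ⟨i, by rw [← SubgroupClass.coe_zpow, hi]⟩
  have hlift : ∀ (n : ℕ) (y : σ.ker), y ^ n = 1 → ∃ f : ZMod n →+ Additive σ.ker,
      ∀ i : ℤ, Additive.toMul (f (i : ZMod n)) = y ^ i := by
    intro n y hy
    let f : ℤ →+ Additive σ.ker := zmultiplesHom _ (Additive.ofMul y)
    have hf : f n = 0 := by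
      show Additive.ofMul (y ^ (n : ℤ)) = 0
      rw [zpow_natCast, hy]
      rfl
    refine ⟨ZMod.lift n ⟨f, hf⟩, fun i => ?_⟩
    rw [ZMod.lift_coe]
    rfl
  obtain ⟨f₁, hf₁⟩ := hlift 3 g₃ hg3
  obtain ⟨f₂, hf₂⟩ := hlift 4 g hg
  obtain ⟨f₃, hf₃⟩ := hlift 4 g' hg'
  refine ⟨AddMonoidHom.toMultiplicativeLeft (f₁.coprod (f₂.coprod f₃)), fun x => ?_⟩
  obtain ⟨i, j, hij⟩ := h2 2 (x ^ 9 : σ.ker) (x ^ 9).2 (by
    show ((x : Γ) ^ 9) ^ 4 = 1
    rw [← pow_mul, show 9 * 4 = 12 * 3 from rfl, pow_mul, show (x : Γ) ^ 12 = 1 from congrArg Subtype.val (hexp x),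
      one_pow])
  have h9 : x ^ 9 = g ^ i * g' ^ j := Subtype.ext (by
    rw [hij, Subgroup.coe_mul, SubgroupClass.coe_zpow, SubgroupClass.coe_zpow])
  obtain ⟨l, hl⟩ := Subgroup.mem_zpowers_iff.1 (hall3 (x ^ 4) (by
    rw [← pow_mul, show 4 * 3 = 12 from rfl, hexp]))
  refine ⟨Multiplicative.ofAdd ((l : ZMod 3), (i : ZMod 4), (j : ZMod 4)), ?_⟩
  show Additive.toMul (f₁ (l : ZMod 3) + (f₂ (i : ZMod 4) + f₃ (j : ZMod 4))) = x
  rw [toMul_add, toMul_add, hf₁, hf₂, hf₃, hl, ← h9, ← pow_add, show 4 + 9 = 12 + 1 from rfl, pow_succ,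
    hexp, one_mul]

end Cfsg.Agent.MultiplierLThreeFour
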